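import Cfsg.Agent.H99.E6.Adjoint
import Cfsg.Prelude.Def_LieTwisted

/-! In characteristic two: the eight generators of a copy of `F₄(2)` in the 27-dimensional group of
type `E₆`, their common fixed line, and diagonal similitudes moving that copy inside the twisted
group. -/

set_option autoImplicit false
set_option maxHeartbeats 1000000

namespace Cfsg.Agent.H99.E6.FourTwo

open Matrix

variable {F : Type*} [Field F]

local notation "M27" => Matrix (Fin 27) (Fin 27) F

/-- the root words of the generators -/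
def gw : Fin 8 → List (Fin 72) := ![[36, 56], [37, 42], [39], [46], [15, 35], [29, 34], [32], [25]]

/-- the sparse matrix of a word at one, minus one -/
def spOf : List (Fin 72) → Sp
  | [] => []
  | r :: l => rootM r.val ++ (spOf l ++ mulS (rootM r.val) (spOf l))

/-- the product of root elements at one -/
def gm (l : List (Fin 72)) : GL (Fin 27) F := (l.map fun r => X r 1).prod

theorem gm_val : ∀ l : List (Fin 72), ((gm l : GL (Fin 27) F) : M27) = 1 + toM (spOf l)
  | [] => by simp [gm, spOf]
  | r :: l => by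
    rw [show (gm (r :: l) : GL (Fin 27) F) = X r 1 * gm l by simp [gm], Units.val_mul, gm_val l,
      X_val, one_smul, spOf, toM_append, toM_append, toM_mulS, Mr]
    noncomm_ring

theorem gm_fix_iff (l : List (Fin 72)) (v : Fin 27 → F) :
    act (gm l) v = v ↔ ∀ a, actS (spOf l) v a = 0 := by
  rw [act, gm_val, Matrix.add_mulVec, Matrix.one_mulVec, add_eq_left, funext_iff]
  simp only [toM_mulVec, Pi.zero_apply]

/-- total coefficient at a position -/
def coef (L : Sp) (i p : Fin 27) : ℤ :=
  ((L.filter fun e => e.1 = i).map fun e => if e.2.1 = p then e.2.2 else 0).sum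

theorem actS_support (v : Fin 27 → F) (i p q : Fin 27) (hpq : p ≠ q) : ∀ L : Sp,
    (∀ e ∈ L.filter (fun e => e.1 = i), v e.2.1 = 0 ∨ e.2.1 = p ∨ e.2.1 = q) →
      actS L v i = (coef L i p : F) * v p + (coef L i q : F) * v q
  | [], _ => by simp [actS, coef]
  | e :: L, h => by
    by_cases he : e.1 = i
    · have ih := actS_support v i p q hpq L fun e' he' =>
        h e' (List.mem_filter.2 ⟨List.mem_cons_of_mem _ (List.mem_filter.1 he').1, (List.mem_filter.1 he').2⟩)
      have h1 := h e (by simp [he])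
      simp only [actS, coef, List.filter_cons, he, decide_true, if_true, List.map_cons,
        List.sum_cons, Int.cast_add] at ih ⊢
      rw [ih]
      by_cases hp : e.2.1 = p
      · rw [if_pos hp, if_neg (hp ▸ hpq), hp, Int.cast_zero]; ring
      · by_cases hq : e.2.1 = q
        · rw [if_neg hp, if_pos hq, hq, Int.cast_zero]; ring
        · rw [if_neg hp, if_neg hq, (h1.resolve_right (by simp [hp, hq])), Int.cast_zero]; ring
    · simpa [actS, coef, he] using actS_support v i p q hpq L fun e' he' => h e' (by simpa [he] using he')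

/-- coordinates shown to vanish, with the equation used -/
def elim : List (Fin 8 × Fin 27 × Fin 27) :=
  [(3, 1, 22), (3, 4, 21), (3, 10, 8), (3, 16, 6), (3, 20, 14), (3, 26, 12), (7, 6, 16), (7, 8, 10),
    (7, 12, 26), (7, 14, 20), (7, 21, 4), (7, 22, 1), (2, 6, 3), (2, 8, 5), (2, 22, 23), (6, 4, 7),
    (6, 20, 19), (6, 26, 25), (0, 2, 9), (0, 13, 24), (0, 17, 11), (4, 2, 0), (4, 11, 17), (4, 24, 13)]

/-- the coordinates eliminated before step `n` -/
def known (n : ℕ) : List (Fin 27) := (elim.take n).map fun x => x.2.2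

/-- what makes the common fixed space a line -/
def fixOK : Bool :=
  ((List.range elim.length).all fun n =>
    let q := elim.getD n (0, 0, 0)
    let L := spOf (gw q.1)
    decide (coef L q.2.1 q.2.2 % 2 = 1) &&
      (L.filter fun e => e.1 = q.2.1).all fun e => decide (e.2.1 ∈ known n ∨ e.2.1 = q.2.2)) &&
  ([((0 : Fin 8), (0 : Fin 27), (15 : Fin 27)), (1, 5, 18)].all fun q =>
    decide (coef (spOf (gw q.1)) q.2.1 2 % 2 = 1) &&
    decide (coef (spOf (gw q.1)) q.2.1 q.2.2 % 2 = 1) &&
      ((spOf (gw q.1)).filter fun e => e.1 = q.2.1).all fun e =>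
        decide (e.2.1 ∈ known elim.length ∨ e.2.1 = 2 ∨ e.2.1 = q.2.2)) &&
  (List.finRange 27).all fun a => decide (a ∈ known elim.length ∨ a = 2 ∨ a = 15 ∨ a = 18)

theorem fix_ok : fixOK = true := by decide +kernel

/-- the fixed vector, over the integers -/
def eZ (a : Fin 27) : ℤ := if a ∈ [2, 15, 18] then 1 else 0

/-- the fixed vector -/
def ev (a : Fin 27) : F := (eZ a : F)

theorem two_eq_zero_cast [CharP F 2] {n : ℤ} (h : n % 2 = 1) : (n : F) = 1 := by
  obtain ⟨k, rfl⟩ : ∃ k, n = 2 * k + 1 := ⟨n / 2, by omega⟩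
  push_cast
  rw [CharTwo.two_eq_zero]
  ring

theorem even_cast [CharP F 2] {n : ℤ} (h : n % 2 = 0) : (n : F) = 0 := by
  obtain ⟨k, rfl⟩ : ∃ k, n = 2 * k := ⟨n / 2, by omega⟩
  push_cast
  rw [CharTwo.two_eq_zero]
  ring

theorem actS_cast (L : Sp) (v : Fin 27 → ℤ) (a : Fin 27) :
    actS L (fun b => (v b : F)) a = ((actS L v a : ℤ) : F) := by
  simp [actS, List.map_map, Function.comp_def, Int.cast_list_sum]

theorem evenFix_ok : ∀ (k : Fin 8) (a : Fin 27), actS (spOf (gw k)) eZ a % 2 = 0 := by
  decide +kernel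

theorem gm_fix [CharP F 2] (k : Fin 8) : act (gm (gw k)) (ev : Fin 27 → F) = ev :=
  (gm_fix_iff _ _).2 fun a => by
    rw [show (ev : Fin 27 → F) = fun b => (eZ b : F) from rfl, actS_cast]
    exact even_cast (evenFix_ok k a)

theorem fixed_line [CharP F 2] {v : Fin 27 → F} (h : ∀ k, act (gm (gw k)) v = v) :
    v = v 2 • ev := by
  have hv : ∀ k a, actS (spOf (gw k)) v a = 0 := fun k => (gm_fix_iff _ v).1 (h k)
  have hok := fix_ok
  simp only [fixOK, Bool.and_eq_true, List.all_eq_true, decide_eq_true_eq] at hok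
  obtain ⟨⟨hs, hp⟩, htot⟩ := hok
  have hk : ∀ n, n ≤ elim.length → ∀ a ∈ known n, v a = 0 := by
    intro n
    induction n with
    | zero => intro _ a ha; simp [known] at ha
    | succ n ih =>
      intro hn a ha
      have hn' := Nat.lt_of_succ_le hn
      rw [known, List.take_succ_eq_append_getElem hn', List.map_append, List.mem_append] at ha
      rcases ha with ha | ha
      · exact ih (Nat.le_of_succ_le hn) a ha
      · obtain ⟨h1, h2⟩ := hs n (List.mem_range.2 hn')
        simp only [List.getD_eq_getElem _ _ hn'] at h1 h2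
        simp only [List.map_cons, List.map_nil, List.mem_singleton] at ha
        obtain ⟨q, hq⟩ := exists_ne elim[n].2.2
        have hc : coef (spOf (gw elim[n].1)) elim[n].2.1 q = 0 ∨ v q = 0 := by
          by_cases hmem : q ∈ known n
          · exact Or.inr (ih (Nat.le_of_succ_le hn) q hmem)
          · refine Or.inl (List.sum_eq_zero fun x hx => ?_)
            obtain ⟨e, he, rfl⟩ := List.mem_map.1 hx
            refine if_neg fun e' => ?_
            rcases h2 e he with h' | h'
            · exact hmem (e' ▸ h')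
            · exact hq (e'.symm.trans h')
        have h0 := hv elim[n].1 elim[n].2.1
        rw [actS_support v _ elim[n].2.2 q hq.symm _ fun e he => (h2 e he).imp
          (fun h' => ih (Nat.le_of_succ_le hn) _ h') Or.inl, two_eq_zero_cast h1, one_mul] at h0
        rcases hc with hc | hc <;> simpa [ha, hc] using h0
  have pair : ∀ q ∈ [((0 : Fin 8), (0 : Fin 27), (15 : Fin 27)), (1, 5, 18)], v q.2.2 = v 2 := by
    intro q hq
    obtain ⟨⟨h1, h2⟩, h3⟩ := hp q hq
    have hne : (2 : Fin 27) ≠ q.2.2 := by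
      simp only [List.mem_cons, List.not_mem_nil, or_false] at hq
      rcases hq with rfl | rfl <;> decide
    have h0 := hv q.1 q.2.1
    rw [actS_support v _ 2 q.2.2 hne _ fun e he => (h3 e he).imp_left (hk _ le_rfl _),
      two_eq_zero_cast h1, two_eq_zero_cast h2, one_mul, one_mul, CharTwo.add_eq_zero] at h0
    exact h0.symm
  funext a
  by_cases ha : a ∈ ([2, 15, 18] : List (Fin 27))
  · have hva : v a = v 2 := by
      simp only [List.mem_cons, List.not_mem_nil, or_false] at ha
      rcases ha with rfl | rfl | rfl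
      · rfl
      · exact pair _ (List.mem_cons_self ..)
      · exact pair _ (List.mem_cons_of_mem _ (List.mem_cons_self ..))
    rw [Pi.smul_apply, hva, ev, eZ, if_pos ha, Int.cast_one, smul_eq_mul, mul_one]
  · rcases htot a (List.mem_finRange a) with h' | h'
    · rw [Pi.smul_apply, ev, eZ, if_neg ha, Int.cast_zero, smul_zero, hk _ le_rfl a h']
    · exact absurd (by simp only [List.mem_cons, List.not_mem_nil, or_false]; exact h') ha

theorem ev_two : (ev : Fin 27 → F) 2 = 1 := by simp [ev, eZ]

/-! ### the diagonal similitudes -/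

/-- exponents -/
def dd (a : Fin 27) : ℕ :=
  [0, 0, 1, 0, 0, 1, 0, 0, 1, 0, 1, 1, 0, 1, 1, 2, 0, 0, 1, 1, 1, 0, 0, 0, 0, 0, 0].getD a.val 0

/-- exponent of a root -/
def kexp (r : Fin 72) : ℕ := if r ∈ [56, 35] then 2 else if r ∈ [36, 15] then 1 else 0

/-- the diagonal similitude -/
def dia (u : Fˣ) : GL (Fin 27) F where
  val := Matrix.diagonal fun a => ((u ^ dd a : Fˣ) : F)
  inv := Matrix.diagonal fun a => (((u ^ dd a)⁻¹ : Fˣ) : F)
  val_inv := by simp [Matrix.diagonal_mul_diagonal]
  inv_val := by simp [Matrix.diagonal_mul_diagonal]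

theorem act_dia (u : Fˣ) (v : Fin 27 → F) : act (dia u) v = fun a => (u : F) ^ dd a * v a := by
  funext a; simp [act, dia, Matrix.mulVec_diagonal]

theorem mons_dd : ∀ m ∈ mons, (dd m.2.1 + dd m.2.2.1 + dd m.2.2.2) % 3 = 1 := by decide +kernel

theorem T_dia {u : Fˣ} (hu : u ^ 3 = 1) (v : Fin 27 → F) : T (act (dia u) v) = (u : F) * T v := by
  rw [act_dia, T, T, evalC, evalC, ← List.sum_map_mul_left]
  refine congrArg List.sum (List.map_congr_left fun m hm => ?_)
  have h : (u : F) ^ dd m.2.1 * (u : F) ^ dd m.2.2.1 * (u : F) ^ dd m.2.2.2 = u := by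
    rw [← pow_add, ← pow_add, ← Nat.div_add_mod (dd m.2.1 + dd m.2.2.1 + dd m.2.2.2) 3,
      mons_dd m hm, pow_add, pow_mul, ← Units.val_pow_eq_pow_val, hu]
    simp
  linear_combination (m.1 : F) * (v m.2.1 * v m.2.2.1 * v m.2.2.2) * h

theorem root_dd : ∀ k : Fin 8, ∀ r ∈ gw k, ∀ e ∈ rootM r.val,
    dd e.1 % 3 = (kexp r + dd e.2.1) % 3 := by decide +kernel

theorem pow_mod3 {u : Fˣ} (hu : u ^ 3 = 1) {m n : ℕ} (h : m % 3 = n % 3) :
    (u : F) ^ m = (u : F) ^ n := by
  have h3 : (u : F) ^ 3 = 1 := by rw [← Units.val_pow_eq_pow_val, hu, Units.val_one]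
  rw [← Nat.div_add_mod m 3, ← Nat.div_add_mod n 3, h]
  simp [pow_add, pow_mul, h3]

theorem dia_toM {u : Fˣ} (hu : u ^ 3 = 1) (k : ℕ) : ∀ L : Sp,
    (∀ e ∈ L, dd e.1 % 3 = (k + dd e.2.1) % 3) →
      (dia u : GL (Fin 27) F).val * toM L = ((u : F) ^ k • toM L) * (dia u : GL (Fin 27) F).val
  | [], _ => by simp
  | e :: L, h => by
    rw [toM_cons, Matrix.mul_add, smul_add, Matrix.add_mul,
      dia_toM hu k L fun e' he' => h e' (List.mem_cons_of_mem _ he')]
    congr 1
    ext a b
    simp only [dia, Matrix.diagonal_mul, Matrix.smul_apply, Matrix.mul_diagonal, Matrix.single_apply,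
      smul_eq_mul, Units.val_pow_eq_pow_val]
    split_ifs with hab
    · rw [← hab.1, ← hab.2, pow_mod3 hu (h e List.mem_cons_self), pow_add]; ring
    · simp

theorem dia_X {u : Fˣ} (hu : u ^ 3 = 1) {r : Fin 72} {k : Fin 8} (hr : r ∈ gw k) :
    dia u * X r 1 * (dia u)⁻¹ = (X r ((u : F) ^ kexp r) : GL (Fin 27) F) := by
  rw [mul_inv_eq_iff_eq_mul]
  refine Units.ext ?_
  rw [Units.val_mul, Units.val_mul, X_val, X_val, one_smul, Matrix.mul_add, Matrix.add_mul,
    Matrix.mul_one, Matrix.one_mul, Mr, dia_toM hu _ _ (root_dd k r hr)]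

theorem dia_gm {u : Fˣ} (hu : u ^ 3 = 1) (k : Fin 8) :
    dia u * gm (gw k) * (dia u)⁻¹ =
      (((gw k).map fun r => (X r ((u : F) ^ kexp r) : GL (Fin 27) F)).prod) := by
  have : ∀ l : List (Fin 72), (∀ r ∈ l, r ∈ gw k) → dia u * gm l * (dia u)⁻¹ =
      ((l.map fun r => (X r ((u : F) ^ kexp r) : GL (Fin 27) F)).prod) := by
    intro l
    induction l with
    | nil => intro _; simp [gm]
    | cons r l ih =>
      intro h
      rw [List.map_cons, List.prod_cons, ← ih fun r' hr' => h r' (List.mem_cons_of_mem _ hr'),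
        ← dia_X hu (h r List.mem_cons_self), show (gm (r :: l) : GL (Fin 27) F) = X r 1 * gm l by simp [gm]]
      group
  exact this _ fun r h => h

theorem swap_ok : sameM (mulS (rootM 36) (rootM 56)) (mulS (rootM 56) (rootM 36)) = true ∧
    sameM (mulS (rootM 37) (rootM 42)) (mulS (rootM 42) (rootM 37)) = true := by
  constructor <;> decide +kernel

theorem X_swap {r s : Fin 72} (h : sameM (mulS (rootM r.val) (rootM s.val))
    (mulS (rootM s.val) (rootM r.val)) = true) (a b : F) : X r a * X s b = X s b * X r a := by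
  refine Units.ext ?_
  have h' : (toM (rootM r.val) : M27) * toM (rootM s.val) = toM (rootM s.val) * toM (rootM r.val) := by
    rw [← toM_mulS, ← toM_mulS, toM_eq_of_same h]
  simp only [Units.val_mul, X_val, Mr, Matrix.add_mul, Matrix.mul_add, Matrix.one_mul, Matrix.mul_one,
    Matrix.smul_mul, Matrix.mul_smul, h']
  module

end Cfsg.Agent.H99.E6.FourTwo
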