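import Cfsg.Agent.H99.E6.FourTwo.Fix
import Cfsg.Agent.H27.GraphFold.E6
import Cfsg.Agent.Chevalley.Functorial

/-! The eight generators in characteristic two generate a copy of the Chevalley group `F₄(2)`. -/

set_option autoImplicit false
set_option maxHeartbeats 1000000

namespace Cfsg.Agent.H99.E6.FourTwo

open Cfsg.Lie Cfsg.Agent.H37 Cfsg.Agent.H27.GraphFold

theorem x_mem_top' {D : ChevalleyDatum} {F : Type*} [Field F] (Q : Chev.Data D F)
    {K : Subgroup ↥(D.group F)}
    (h : ∀ i < D.rank, ∀ t, Q.sys.x (D.simple i) t ∈ K ∧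
      Q.sys.x (D.neg (D.simple i)) t ∈ K) : K = ⊤ := by
  have hall : ∀ r < D.nroots, ∀ t, Q.sys.x r t ∈ K := by
    refine Q.K.root_induction (fun i hi t => (h i hi t).1) ?_
    intro i hi r hr ih t
    have e : Q.sys.x (Q.K.w i r) t
        = Q.sys.ns i * Q.sys.x r ((Q.K.sg i r : F) * t) * (Q.sys.ns i)⁻¹ := by
      refine Subtype.ext ?_
      show Q.K.xU F _ t = Q.K.nS F i * Q.K.xU F r _ * (Q.K.nS F i)⁻¹
      rw [Q.K.nS_conj_xU F hi hr, ← mul_assoc, ← Int.cast_mul, Q.K.sg_sq, Int.cast_one, one_mul]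
    have hn : Q.sys.ns i ∈ K := by
      have e' : Q.sys.ns i = Q.sys.x (D.simple i) 1 *
          Q.sys.x (D.neg (D.simple i)) (-1⁻¹) * Q.sys.x (D.simple i) 1 :=
        Subtype.ext (Q.K.nU_eq F _ _)
      rw [e']
      exact mul_mem (mul_mem (h i hi 1).1 (h i hi _).2) (h i hi 1).1
    rw [e]
    exact mul_mem (mul_mem hn (ih _)) (inv_mem hn)
  rw [eq_top_iff]
  intro g _
  have hle : D.group F ≤ K.map (D.group F).subtype := by
    refine le_trans (le_of_eq (Q.K.group_eq F)) ((Subgroup.closure_le _).2 ?_)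
    rintro _ ⟨r, t, hr, rfl⟩
    exact ⟨Q.sys.x r t, hall r hr t, rfl⟩
  obtain ⟨g', hg', e⟩ := hle g.2
  rwa [← Subtype.ext (a1 := g') (a2 := g) e]

/-- the folding over the field with two elements -/
noncomputable abbrev S2 : Setup chevE6 chevF4 (ZMod 2) := setupE6 (ZMod 2)

/-- the small roots of the generators -/
def gR : Fin 8 → ℕ := ![33, 27, 25, 24, 14, 20, 22, 23]

theorem gR_lt : ∀ k, gR k < chevF4.nroots := by decide

theorem gR_orb : ∀ k, tabE6.o (gR k) = (gw k).map fun r => (r.val, (1 : ℤ)) := by decide +kernel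

theorem gR_simple : ∀ i : Fin 4, (∃ k, gR k = chevF4.simple i) ∧ ∃ k, gR k = chevF4.neg (chevF4.simple i) := by
  decide +kernel

/-- the graph automorphism -/
noncomputable def gph : MulAut ↥(chevE6.group (ZMod 2)) := S2.hT.groupEquiv S2.Q.ord (ZMod 2)

theorem gph_agree : S2.Agree gph := fun _ => rfl

/-- the pair of a small root at one -/
noncomputable def gPair (k : Fin 8) : ↥(S2.gam) :=
  ⟨(S2.Phi (gR k) 1, S2.Q'.sys.x (gR k) 1), S2.pair_mem (gR_lt k) 1⟩

/-- the second projection -/
noncomputable def sndHom : ↥(S2.gam) →* ↥(chevF4.group (ZMod 2)) :=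
  (MonoidHom.snd _ _).comp S2.gam.subtype

theorem sndHom_inj : Function.Injective sndHom :=
  (injective_iff_map_eq_one sndHom).2 fun q hq =>
    Subtype.ext (gph_agree.snd_inj (torusHypE6 _) q.2 hq)

theorem sndHom_closure : (Subgroup.closure (Set.range gPair)).map sndHom = ⊤ := by
  refine x_mem_top' S2.Q' fun i hi t => ?_
  obtain ⟨⟨k, hk⟩, k', hk'⟩ := gR_simple ⟨i, hi⟩
  have hcase : ∀ k : Fin 8, S2.Q'.sys.x (gR k) t ∈ (Subgroup.closure (Set.range gPair)).map sndHom := by
    intro k
    have ht : t = 0 ∨ t = 1 := by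
      revert t; decide
    rcases ht with rfl | rfl
    · have h0 : S2.Q'.sys.x (gR k) (0 : ZMod 2) = 1 := by
        have h := S2.Q'.sys.x_add' (gR k) (gR_lt k) (0 : ZMod 2) 0
        rw [add_zero] at h
        exact mul_eq_left.1 h.symm
      rw [h0]
      exact one_mem _
    · exact ⟨gPair k, Subgroup.subset_closure ⟨k, rfl⟩, rfl⟩
  exact ⟨hk ▸ hcase k, hk' ▸ hcase k'⟩

theorem gam_closure : Subgroup.closure (Set.range gPair) = ⊤ :=
  (Subgroup.map_injective sndHom_inj) (by
    rw [sndHom_closure, eq_comm, eq_top_iff, ← sndHom_closure]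
    exact Subgroup.map_mono le_top)

variable {K : Type*} [Field K]

/-- the product of root elements of a word -/
def we (l : List (Fin 72 × K)) : Elem K := (l.map fun p => xe p.1 p.2).prod

theorem psi_we : ∀ l : List (Fin 72 × K), psi (we l) =
    (S2.Q.K).wU K (l.map fun p => (p.1.val, p.2))
  | [] => by simp [we, Chevalley.Cert.wU_nil]
  | p :: l => by
    rw [show we (p :: l) = xe p.1 p.2 * we l by simp [we], map_mul, psi_we l, List.map_cons,
      Chevalley.Cert.wU_cons]
    congr 1
    refine Units.ext ?_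
    rw [Chevalley.Cert.coe_xU, psi_xe]
    show _ = ChevalleyDatum.x chevE6 K p.1.val p.2
    rw [ChevalleyDatum.x]
    rw [dif_pos (show p.1.val < chevE6.nroots from p.1.isLt)]
    exact congrArg (fun r => chevE6.xMat K r p.2) (Fin.ext rfl)

/-- the generators in the group of the root elements -/
def h0 (k : Fin 8) : Elem K := we ((gw k).map fun r => (r, 1))

theorem h0_val (k : Fin 8) : ((h0 k : Elem K) : GL (Fin 27) K) = gm (gw k) := by
  rw [h0, we, Subgroup.val_list_prod, gm, List.map_map, List.map_map]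
  rfl

/-- the copy of `F₄(2)` -/
def H0 (K : Type*) [Field K] : Subgroup (Elem K) := Subgroup.closure (Set.range h0)

theorem iso_f4 [CharP K 2] :
    Nonempty (↥((H0 K).map psi) ≃* ↥(chevF4.group (ZMod 2))) := by
  let ι : ZMod 2 →+* K := ZMod.castHom (dvd_refl 2) K
  let f : ↥(S2.gam) →* GL chevE6.Idx K := (Matrix.GeneralLinearGroup.map ι).comp
    ((chevE6.group (ZMod 2)).subtype.comp ((MonoidHom.fst _ _).comp S2.gam.subtype))
  have hf : Function.Injective f := by
    intro a b e
    refine Subtype.ext (Setup.gam_fst_inj a.2 b.2 (Subtype.ext ?_))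
    exact Units.map_injective (Matrix.map_injective ι.injective) e
  have hgen : ∀ k, f (gPair k) = psi (h0 k) := by
    intro k
    show Matrix.GeneralLinearGroup.map ι (S2.Phi (gR k) 1 : GL chevE6.Idx (ZMod 2)) = _
    rw [Setup.Phi, S2.coe_prod, S2.Q.K.map_wU, h0, psi_we]
    congr 1
    rw [Setup.wordF, show S2.O.o (gR k) = _ from gR_orb k, List.map_map, List.map_map, List.map_map]
    refine List.map_congr_left fun r _ => ?_
    simp
  have himg : f.range = (H0 K).map psi := by
    rw [MonoidHom.range_eq_map, ← gam_closure, MonoidHom.map_closure, H0, MonoidHom.map_closure,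
      ← Set.range_comp, ← Set.range_comp, show (f ∘ gPair) = (psi ∘ h0) from funext hgen]
  have hbij : Function.Bijective sndHom := by
    refine ⟨sndHom_inj, ?_⟩
    rw [← MonoidHom.range_eq_top, eq_top_iff, ← sndHom_closure, MonoidHom.range_eq_map]
    exact Subgroup.map_mono le_top
  exact ⟨((MulEquiv.subgroupCongr himg).symm.trans (MonoidHom.ofInjective hf).symm).trans
    (MulEquiv.ofBijective sndHom hbij)⟩

end Cfsg.Agent.H99.E6.FourTwo
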