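import Cfsg.Agent.H99.E6.FourTwo.Fold

/-! Three non-conjugate copies of `F₄(2)` in the twisted group of type `E₆` over four elements. -/

set_option autoImplicit false
set_option maxHeartbeats 1000000

namespace Cfsg.Agent.H99.E6.FourTwo

open Matrix Cfsg.Lie Cfsg.Agent.H37 Cfsg.Agent.H27.GraphFold

variable {K : Type*} [Field K]

local notation "M27" => Matrix (Fin 27) (Fin 27) K

/-- the twisted words -/
def twl (u : Kˣ) (k : Fin 8) : List (Fin 72 × K) := (gw k).map fun r => (r, (u : K) ^ kexp r)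

/-- the twisted generators -/
def hu (u : Kˣ) (k : Fin 8) : Elem K := we (twl u k)

theorem hu_val {u : Kˣ} (hu3 : u ^ 3 = 1) (k : Fin 8) :
    ((hu u k : Elem K) : GL (Fin 27) K) = dia u * gm (gw k) * (dia u)⁻¹ := by
  rw [dia_gm hu3, hu, twl, we, Subgroup.val_list_prod, List.map_map, List.map_map]
  rfl

/-- the twisted copies -/
def Hu (u : Kˣ) : Subgroup (Elem K) := Subgroup.closure (Set.range (hu u))

theorem Hu_val {u : Kˣ} (hu3 : u ^ 3 = 1) :
    (Hu u).map (Elem K).subtype =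
      ((H0 K).map (Elem K).subtype).map (MulAut.conj (dia u)).toMonoidHom := by
  rw [Hu, H0, MonoidHom.map_closure, MonoidHom.map_closure, MonoidHom.map_closure, ← Set.range_comp,
    ← Set.range_comp, ← Set.range_comp]
  congr 2
  funext k
  show ((hu u k : Elem K) : GL (Fin 27) K) = dia u * ((h0 k : Elem K) : GL (Fin 27) K) * (dia u)⁻¹
  rw [hu_val hu3, h0_val]

/-- the fixed vector of a copy -/
def eu (u : Kˣ) : Fin 27 → K := act (dia u) ev

theorem T_ev [CharP K 2] : T (ev : Fin 27 → K) = 1 := by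
  have h : evalC mons eZ % 2 = 1 := by decide +kernel
  rw [show T (ev : Fin 27 → K) = ((evalC mons eZ : ℤ) : K) by
    simp [T, ev, evalC, Int.cast_list_sum, List.map_map, Function.comp_def]]
  exact two_eq_zero_cast h

theorem T_eu [CharP K 2] {u : Kˣ} (hu3 : u ^ 3 = 1) : T (eu u) = (u : K) := by
  rw [eu, T_dia hu3, T_ev, mul_one]

theorem eu_two_ne (u : Kˣ) : eu u 2 ≠ (0 : K) := by
  rw [eu, act_dia]
  simp [ev, eZ]

theorem Hu_fix [CharP K 2] {u : Kˣ} (hu3 : u ^ 3 = 1) {g : Elem K} (hg : g ∈ Hu u) :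
    act g.1 (eu u) = eu u := by
  induction hg using Subgroup.closure_induction with
  | mem x hx =>
    obtain ⟨k, rfl⟩ := hx
    rw [hu_val hu3, act_mul, act_mul, eu, act_inv_cancel, gm_fix]
  | one => exact act_one _
  | mul x y _ _ hx hy => rw [Subgroup.coe_mul, act_mul, hy, hx]
  | inv x _ hx =>
    conv_lhs => rw [← hx]
    rw [Subgroup.coe_inv, act_inv_cancel]

theorem act_smul (g : GL (Fin 27) K) (c : K) (v : Fin 27 → K) : act g (c • v) = c • act g v :=
  Matrix.mulVec_smul _ _ _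

theorem center_scalar {g : Elem K} (h : g ∈ (psi (F := K)).ker) :
    ∃ c : K, (g.1 : M27) = c • (1 : M27) := by
  rw [psi_ker, Subgroup.mem_center_iff] at h
  refine scalar_of_commute fun r => ?_
  have h1 := congrArg (fun x : Elem K => (x.1 : M27)) (h (xe r 1))
  simp only [xe, Subgroup.coe_mul, Units.val_mul, X_val, one_smul, Matrix.add_mul, Matrix.mul_add,
    Matrix.one_mul, Matrix.mul_one] at h1
  exact (add_left_cancel h1).symm

theorem psi_inj_Hu [CharP K 2] {u : Kˣ} (hu3 : u ^ 3 = 1) :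
    Function.Injective ((psi (F := K)).comp (Hu u).subtype) := by
  refine (injective_iff_map_eq_one _).2 fun g hg => ?_
  obtain ⟨c, hc⟩ := center_scalar (g := g.1) hg
  have h := congrFun (Hu_fix hu3 g.2) 2
  rw [act, hc, Matrix.smul_mulVec, Matrix.one_mulVec, Pi.smul_apply, smul_eq_mul] at h
  have hc1 : c = 1 := mul_right_cancel₀ (eu_two_ne u) (h.trans (one_mul _).symm)
  exact Subtype.ext (Subtype.ext (Units.ext (by rw [hc, hc1, one_smul]; rfl)))

theorem Hu_iso [CharP K 2] {u : Kˣ} (hu3 : u ^ 3 = 1) :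
    Nonempty (↥((Hu u).map psi) ≃* ↥(chevF4.group (ZMod 2))) := by
  have inj : ∀ w : Kˣ, w ^ 3 = 1 → Nonempty (↥(Hu w) ≃* ↥((Hu w).map psi)) := fun w hw =>
    ⟨(MonoidHom.ofInjective (psi_inj_Hu hw)).trans
      (MulEquiv.subgroupCongr (by rw [MonoidHom.range_comp, Subgroup.range_subtype]))⟩
  have hone : Hu (1 : Kˣ) = H0 K := by
    rw [Hu, H0]
    congr 2
    funext k
    simp [hu, twl, h0]
  obtain ⟨e1⟩ := inj u hu3
  obtain ⟨e0⟩ := inj 1 (one_pow 3)
  obtain ⟨e⟩ := iso_f4 (K := K)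
  let E : ↥(H0 K) ≃* ↥(Hu u) :=
    ((Subgroup.equivMapOfInjective _ _ (Elem K).subtype_injective).trans
      ((MulAut.conj (dia u)).subgroupMap _)).trans
      ((MulEquiv.subgroupCongr (Hu_val hu3).symm).trans
        (Subgroup.equivMapOfInjective _ _ (Elem K).subtype_injective).symm)
  exact ⟨((e1.symm.trans E.symm).trans
    ((MulEquiv.subgroupCongr hone.symm).trans e0)).trans
      ((MulEquiv.subgroupCongr (by rw [hone])).trans e)⟩

theorem hu_sq [CharP K 2] {u : Kˣ} (hu3 : u ^ 3 = 1) (k : Fin 8) : hu u k * hu u k = 1 := by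
  refine Subtype.ext ?_
  rw [Subgroup.coe_mul, hu_val hu3, OneMemClass.coe_one, MulAut.conj_apply (dia u) (gm (gw k)) |>.symm,
    ← map_mul]
  convert map_one (MulAut.conj (dia u)) using 2
  have hcomm : ∀ k : Fin 8, ∀ r ∈ gw k, ∀ s ∈ gw k, sameM (mulS (rootM r.val) (rootM s.val))
      (mulS (rootM s.val) (rootM r.val)) = true := by decide +kernel
  have : ∀ l : List (Fin 72), (∀ r ∈ l, r ∈ gw k) → gm l * gm l = (1 : GL (Fin 27) K) := by
    intro l
    induction l with
    | nil => intro _; simp [gm]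
    | cons r l ih =>
      intro hl
      have hr : X r (1 : K) * X r 1 = 1 := by
        nth_rewrite 2 [← CharTwo.neg_eq (1 : K)]
        rw [← X_inv, mul_inv_cancel]
      have hc : Commute (X r (1 : K)) (gm l) := Commute.list_prod_right _ _ fun y hy => by
        obtain ⟨s', hs', rfl⟩ := List.mem_map.1 hy
        exact X_swap (hcomm k r (hl r List.mem_cons_self) s' (hl s' (List.mem_cons_of_mem _ hs'))) _ _
      rw [show (gm (r :: l) : GL (Fin 27) K) = X r 1 * gm l by simp [gm], mul_assoc,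
        ← mul_assoc (gm l), ← hc.eq, mul_assoc (X r (1 : K)) (gm l), ← mul_assoc, hr, one_mul,
        ih fun r' hr' => hl r' (List.mem_cons_of_mem _ hr')]
  rw [this _ fun r h => h]

/-- Two conjugate copies have the same parameter. -/
theorem eq_of_conj [CharP K 2] [Fintype K] (hK : Fintype.card K = 4) {u w : Kˣ} (hu3 : u ^ 3 = 1)
    (hw3 : w ^ 3 = 1) (x : Elem K)
    (h : ∀ k, psi x * psi (hu u k) * (psi x)⁻¹ ∈ (Hu w).map psi) : u = w := by
  have hfix : ∀ k, act (hu u k).1 (act x.1⁻¹ (eu w)) = act x.1⁻¹ (eu w) := by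
    intro k
    obtain ⟨g, hg, hgk⟩ := Subgroup.mem_map.1 (h k)
    have hz : g⁻¹ * (x * hu u k * x⁻¹) ∈ (psi (F := K)).ker := by
      rw [MonoidHom.mem_ker, map_mul, map_inv, map_mul, map_mul, map_inv, hgk, inv_mul_cancel]
    obtain ⟨c, hc⟩ := center_scalar hz
    have hy : act (x * hu u k * x⁻¹ : Elem K).1 (eu w) = c • eu w := by
      rw [show (x * hu u k * x⁻¹ : Elem K) = g * (g⁻¹ * (x * hu u k * x⁻¹)) by group,
        Subgroup.coe_mul, act_mul]
      conv_lhs => arg 2; rw [act, hc, Matrix.smul_mulVec, Matrix.one_mulVec]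
      rw [act_smul, Hu_fix hw3 hg]
    have hsq : (c * c) • eu w = eu w := by
      have h2 : (x * hu u k * x⁻¹) * (x * hu u k * x⁻¹) = 1 := by
        calc _ = x * (hu u k * hu u k) * x⁻¹ := by group
          _ = 1 := by rw [hu_sq hu3]; simp
      calc (c * c) • eu w = act ((x * hu u k * x⁻¹) * (x * hu u k * x⁻¹) : Elem K).1 (eu w) := by
            rw [Subgroup.coe_mul, act_mul, hy, act_smul, hy, smul_smul]
        _ = eu w := by rw [h2]; exact act_one _
    have hc1 : c = 1 := by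
      have h3 := congrFun hsq 2
      rw [Pi.smul_apply, smul_eq_mul] at h3
      have h4 := mul_right_cancel₀ (eu_two_ne w) (h3.trans (one_mul _).symm)
      have h5 : (c - 1) * (c - 1) = 0 := by
        linear_combination h4 + (1 - c) * (CharTwo.two_eq_zero (R := K))
      exact sub_eq_zero.1 (mul_self_eq_zero.1 h5)
    rw [hc1, one_smul, Subgroup.coe_mul, Subgroup.coe_mul, Subgroup.coe_inv, act_mul, act_mul] at hy
    have := congrArg (act x.1⁻¹) hy
    rwa [act_inv_cancel] at this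
  set y := act (dia u)⁻¹ (act x.1⁻¹ (eu w)) with hy
  have hline : y = y 2 • ev := fixed_line fun k => by
    have h1 := congrArg (act (dia u)⁻¹) (hfix k)
    rw [hu_val hu3, act_mul, act_mul, act_inv_cancel] at h1
    exact h1
  have he : eu w = act x.1 (y 2 • eu u) := by
    rw [show y 2 • eu u = act (dia u) (y 2 • ev) from (act_smul _ _ _).symm, ← hline, hy,
      ← act_mul (dia u), mul_inv_cancel, act_one, ← act_mul, mul_inv_cancel, act_one]
  have hT : (w : K) = y 2 ^ 3 * u := by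
    rw [← T_eu hw3, he, mem_Stab.1 (Elem_le x.2), ← T_eu hu3, T, T, evalC, evalC,
      ← List.sum_map_mul_left]
    refine congrArg List.sum (List.map_congr_left fun m _ => ?_)
    simp only [Pi.smul_apply, smul_eq_mul]
    ring
  have hy0 : y 2 ≠ 0 := by
    intro h0
    rw [h0] at hT
    simp at hT
  have h3 : y 2 ^ 3 = 1 := by simpa [hK] using FiniteField.pow_card_sub_one_eq_one (y 2) hy0
  exact (Units.ext (by rw [hT, h3, one_mul])).symm

theorem twl_mem (u : Kˣ) (hu3 : u ^ 3 = 1) (k : Fin 8) :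
    ∃ g : GL chevE6.Idx K, g ∈ twistedE6 K 2 ∧ g = psi (hu u k) := by
  have single : ∀ r : Fin 72, r.val ∈ [e6p2, e6m2, e6p4, e6m4] → psi (xe r 1) ∈ twistedE6 K 2 := by
    intro r hr
    refine Subgroup.subset_closure ⟨[(r.val, (1 : K))], Or.inl ⟨1, one_pow 2, r.val, hr, rfl⟩, ?_⟩
    rw [show psi (xe r (1 : K)) = psi (we [(r, (1 : K))]) by simp [we], psi_we, Chevalley.Cert.coe_wU]
    rfl
  have pair : ∀ (r s : Fin 72) (t : K),
      (r.val, s.val) ∈ [(e6p1, e6p6), (e6m1, e6m6), (e6p3, e6p5), (e6m3, e6m5)] →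
        psi (xe r t * xe s (t ^ 2)) ∈ twistedE6 K 2 := by
    intro r s t hr
    refine Subgroup.subset_closure ⟨[(r.val, t), (s.val, t ^ 2)], Or.inr ⟨t, _, hr, rfl⟩, ?_⟩
    rw [show psi (xe r t * xe s (t ^ 2)) = psi (we [(r, t), (s, t ^ 2)]) by simp [we], psi_we,
      Chevalley.Cert.coe_wU]
    rfl
  have hu2 : ((u : K) ^ 2) ^ 2 = u := by
    rw [← pow_mul, show 2 * 2 = 3 + 1 from rfl, pow_succ, ← Units.val_pow_eq_pow_val, hu3]; simp
  have swap : ∀ (r s : Fin 72) (a b : K), sameM (mulS (rootM r.val) (rootM s.val))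
      (mulS (rootM s.val) (rootM r.val)) = true → xe r a * xe s b = xe s b * xe r a :=
    fun r s a b h => Subtype.ext (X_swap h a b)
  refine ⟨_, ?_, rfl⟩
  fin_cases k
  · show psi (we [((36 : Fin 72), (u : K) ^ 1), (56, (u : K) ^ 2)]) ∈ _
    rw [show we [((36 : Fin 72), (u : K) ^ 1), (56, (u : K) ^ 2)] = xe 56 ((u : K) ^ 2) * xe 36 (((u : K) ^ 2) ^ 2) by
      rw [hu2, ← swap _ _ _ _ swap_ok.1]; simp [we]]
    exact pair 56 36 _ (by decide)
  · show psi (we [((37 : Fin 72), (u : K) ^ 0), (42, (u : K) ^ 0)]) ∈ _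
    rw [show we [((37 : Fin 72), (u : K) ^ 0), (42, (u : K) ^ 0)] = xe 42 (1 : K) * xe 37 (1 ^ 2) by
      rw [one_pow, ← swap _ _ _ _ swap_ok.2]; simp [we]]
    exact pair 42 37 _ (by decide)
  · show psi (we [((39 : Fin 72), (u : K) ^ 0)]) ∈ _
    simpa [we] using single 39 (by decide)
  · show psi (we [((46 : Fin 72), (u : K) ^ 0)]) ∈ _
    simpa [we] using single 46 (by decide)
  · show psi (we [((15 : Fin 72), (u : K) ^ 1), (35, (u : K) ^ 2)]) ∈ _
    simpa [we] using pair 15 35 (u : K) (by decide)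
  · show psi (we [((29 : Fin 72), (u : K) ^ 0), (34, (u : K) ^ 0)]) ∈ _
    simpa [we] using pair 29 34 (1 : K) (by decide)
  · show psi (we [((32 : Fin 72), (u : K) ^ 0)]) ∈ _
    simpa [we] using single 32 (by decide)
  · show psi (we [((25 : Fin 72), (u : K) ^ 0)]) ∈ _
    simpa [we] using single 25 (by decide)

theorem Hu_le (u : Kˣ) (hu3 : u ^ 3 = 1) : (Hu u).map psi ≤ twistedE6 K 2 := by
  rw [Hu, MonoidHom.map_closure, Subgroup.closure_le]
  rintro _ ⟨_, ⟨k, rfl⟩, rfl⟩
  obtain ⟨g, hg, rfl⟩ := twl_mem u hu3 k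
  exact hg

theorem twisted_le_range : twistedE6 K 2 ≤ (psi (F := K)).range := by
  rw [psi_range, twistedE6, ChevalleyDatum.genSubgroup, Subgroup.closure_le]
  rintro g ⟨w, -, hg⟩
  rw [show g = S2.Q.K.wU K w from Units.ext (hg.trans (Chevalley.Cert.coe_wU _ _ _).symm)]
  refine Subgroup.list_prod_mem _ fun y hy => ?_
  obtain ⟨p, -, rfl⟩ := List.mem_map.1 hy
  exact S2.Q.K.xU_mem_group K p.1 p.2

end Cfsg.Agent.H99.E6.FourTwo
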